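import Mathlib.RingTheory.Trace.Basic
import Mathlib.RingTheory.Localization.NormTrace
import Mathlib.LinearAlgebra.Matrix.Trace

/-!
# The involution `x ↦ tr x - x` of a quadratic algebra
-/

set_option autoImplicit false

universe u

noncomputable section

namespace Groth.Agent.DblInvol

variable {A B : Type u} [CommRing A] [CommRing B] [Algebra A B]

theorem polarised {R : Type*} [CommRing R] (M N : Matrix (Fin 2) (Fin 2) R) :
    M * N + N * M - M.trace • N - N.trace • M + (M.trace * N.trace - (M * N).trace) • (1 : Matrix _ _ R) = 0 := by
  ext i j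
  fin_cases i <;> fin_cases j <;> simp [Matrix.mul_apply, Fin.sum_univ_two, Matrix.trace_fin_two] <;> ring

theorem trace_one_eq (b : Module.Basis (Fin 2) A B) : Algebra.trace A B 1 = 2 := by
  classical
  rw [Algebra.trace_eq_matrix_trace b, map_one, Matrix.trace_one]
  simp

theorem mul_conj (b : Module.Basis (Fin 2) A B) (x y : B) :
    (algebraMap A B (Algebra.trace A B x) - x) * (algebraMap A B (Algebra.trace A B y) - y) =
      algebraMap A B (Algebra.trace A B (x * y)) - x * y := by
  classical
  apply Algebra.leftMulMatrix_injective b
  have h := polarised (Algebra.leftMulMatrix b x) (Algebra.leftMulMatrix b y)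
  have hc : Algebra.leftMulMatrix b x * Algebra.leftMulMatrix b y =
      Algebra.leftMulMatrix b y * Algebra.leftMulMatrix b x := by
    rw [← map_mul, ← map_mul, mul_comm]
  rw [← hc] at h
  simp only [Algebra.algebraMap_eq_smul_one, Algebra.trace_eq_matrix_trace b]
  simp only [map_mul, map_sub, map_smul, map_one, mul_sub, sub_mul, smul_mul_assoc, mul_smul_comm,
    _root_.one_mul, _root_.mul_one]
  rw [← sub_eq_zero]
  refine Eq.trans ?_ h
  module

/-- The involution. -/
def conj (b : Module.Basis (Fin 2) A B) : B →ₐ[A] B :=
  AlgHom.ofLinearMap ((Algebra.linearMap A B).comp (Algebra.trace A B) - LinearMap.id)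
    (by
      show algebraMap A B (Algebra.trace A B 1) - 1 = 1
      rw [trace_one_eq b, map_ofNat]
      ring)
    (fun x y => (mul_conj b x y).symm)

theorem conj_apply (b : Module.Basis (Fin 2) A B) (x : B) :
    conj b x = algebraMap A B (Algebra.trace A B x) - x := rfl

theorem conj_conj (b : Module.Basis (Fin 2) A B) (x : B) : conj b (conj b x) = x := by
  rw [conj_apply, conj_apply, map_sub, Algebra.trace_algebraMap_of_basis b]
  simp only [Fintype.card_fin, two_smul, add_sub_cancel_right]
  ring

theorem mem_range_of_conj_eq (h2 : IsUnit (2 : A)) (b : Module.Basis (Fin 2) A B) {x : B}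
    (hx : conj b x = x) : ∃ a, algebraMap A B a = x := by
  obtain ⟨h, hh⟩ := h2.exists_left_inv
  refine ⟨h * Algebra.trace A B x, ?_⟩
  have e : algebraMap A B (Algebra.trace A B x) = 2 * x := by
    rw [conj_apply, sub_eq_iff_eq_add] at hx
    rw [hx]
    ring
  rw [map_mul, e, ← mul_assoc, ← map_ofNat (algebraMap A B) 2, ← map_mul, hh, map_one, one_mul]

theorem algebraMap_injective (b : Module.Basis (Fin 2) A B) : Function.Injective (algebraMap A B) := by
  classical
  intro a a' h
  have := congrArg (Algebra.leftMulMatrix b) h
  simp only [AlgHom.commutes] at this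
  exact Matrix.scalar_inj.1 this

theorem conj_localization (M : Submonoid A) {A' B' : Type u} [CommRing A'] [CommRing B'] [Algebra A A']
    [Algebra B B'] [Algebra A' B'] [Algebra A B'] [IsScalarTower A A' B'] [IsScalarTower A B B']
    [IsLocalization M A'] [IsLocalization (Algebra.algebraMapSubmonoid B M) B']
    (b : Module.Basis (Fin 2) A B) (b' : Module.Basis (Fin 2) A' B') (x : B) :
    algebraMap B B' (conj b x) = conj b' (algebraMap B B' x) := by
  haveI : Module.Free A B := Module.Free.of_basis b
  haveI : Module.Finite A B := Module.Finite.of_basis b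
  rw [conj_apply, conj_apply, map_sub, Algebra.trace_localization A M x,
    ← IsScalarTower.algebraMap_apply A A' B', ← IsScalarTower.algebraMap_apply A B B']

end Groth.Agent.DblInvol
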