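import Groth.Agent.DblInvol.Alg
import Groth.Prelude.Def_SGA1
import Mathlib.AlgebraicGeometry.Morphisms.FlatRank
import Mathlib.RingTheory.Localization.Free
import Mathlib.RingTheory.Localization.Module

/-!
# The involution of a double cover
-/

set_option autoImplicit false
set_option linter.style.haveILetI false

universe u

open CategoryTheory Limits AlgebraicGeometry TopologicalSpace

noncomputable section

namespace Groth.Agent.DblInvol

variable {X Y : Scheme.{u}} (f : X ⟶ Y)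

/-- an affine open over which the functions have a basis with two elements -/
def IsFreeTwo (V : Y.Opens) : Prop :=
  IsAffineOpen V ∧ (letI := (f.app V).hom.toAlgebra; Nonempty (Module.Basis (Fin 2) Γ(Y, V) Γ(X, f ⁻¹ᵁ V)))

variable {f} [IsFinite f]

theorem IsFreeTwo.isAffine {V : Y.Opens} (h : IsFreeTwo f V) : IsAffineOpen (f ⁻¹ᵁ V) := h.1.preimage f

/-- the involution of sections -/
def conjV {V : Y.Opens} (h : IsFreeTwo f V) : Γ(X, f ⁻¹ᵁ V) ⟶ Γ(X, f ⁻¹ᵁ V) :=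
  letI := (f.app V).hom.toAlgebra
  CommRingCat.ofHom (conj h.2.some).toRingHom

theorem app_conjV {V : Y.Opens} (h : IsFreeTwo f V) : f.app V ≫ conjV h = f.app V := by
  letI := (f.app V).hom.toAlgebra
  exact CommRingCat.hom_ext (RingHom.ext fun a => (conj h.2.some).commutes a)

theorem conjV_conjV {V : Y.Opens} (h : IsFreeTwo f V) : conjV h ≫ conjV h = 𝟙 _ := by
  letI := (f.app V).hom.toAlgebra
  exact CommRingCat.hom_ext (RingHom.ext fun x => conj_conj h.2.some x)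

theorem app_injective {V : Y.Opens} (h : IsFreeTwo f V) : Function.Injective (f.app V).hom := by
  letI := (f.app V).hom.toAlgebra
  exact algebraMap_injective h.2.some

theorem mem_range_of_conjV (h2 : IsUnit (2 : Γ(Y, ⊤))) {V : Y.Opens} (h : IsFreeTwo f V) {x : Γ(X, f ⁻¹ᵁ V)}
    (hx : conjV h x = x) : ∃ a, f.app V a = x := by
  letI := (f.app V).hom.toAlgebra
  have := h2.map (Y.presheaf.map (homOfLE (le_top : V ≤ ⊤)).op).hom
  rw [map_ofNat] at this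
  exact mem_range_of_conj_eq this h.2.some hx

/-- restriction of the inverse images -/
abbrev res {W V : Y.Opens} (hWV : W ≤ V) : Γ(X, f ⁻¹ᵁ V) ⟶ Γ(X, f ⁻¹ᵁ W) :=
  X.presheaf.map (homOfLE (f.preimage_mono hWV)).op

theorem preimage_basicOpen_eq {V : Y.Opens} (r : Γ(Y, V)) : f ⁻¹ᵁ Y.basicOpen r = X.basicOpen (f.app V r) :=
  Scheme.preimage_basicOpen f r

theorem isFreeTwo_basicOpen_and {V : Y.Opens} (h : IsFreeTwo f V) (r : Γ(Y, V)) :
    ∃ h' : IsFreeTwo f (Y.basicOpen r),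
      conjV h ≫ res (f := f) (Y.basicOpen_le r) = res (f := f) (Y.basicOpen_le r) ≫ conjV h' := by
  let W := Y.basicOpen r
  letI iAB : Algebra Γ(Y, V) Γ(X, f ⁻¹ᵁ V) := (f.app V).hom.toAlgebra
  letI iA'B' : Algebra Γ(Y, W) Γ(X, f ⁻¹ᵁ W) := (f.app W).hom.toAlgebra
  letI iBB' : Algebra Γ(X, f ⁻¹ᵁ V) Γ(X, f ⁻¹ᵁ W) := (res (f := f) (Y.basicOpen_le r)).hom.toAlgebra
  letI iAB' : Algebra Γ(Y, V) Γ(X, f ⁻¹ᵁ W) :=
    ((f.app V) ≫ res (f := f) (Y.basicOpen_le r)).hom.toAlgebra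
  haveI : IsScalarTower Γ(Y, V) Γ(X, f ⁻¹ᵁ V) Γ(X, f ⁻¹ᵁ W) := IsScalarTower.of_algebraMap_eq' rfl
  haveI : IsScalarTower Γ(Y, V) Γ(Y, W) Γ(X, f ⁻¹ᵁ W) := IsScalarTower.of_algebraMap_eq' (by
    have e := f.naturality (homOfLE (Y.basicOpen_le r)).op
    exact (congrArg CommRingCat.Hom.hom e).symm)
  haveI := h.1.isLocalization_basicOpen r
  haveI : IsLocalization (Algebra.algebraMapSubmonoid Γ(X, f ⁻¹ᵁ V) (Submonoid.powers r)) Γ(X, f ⁻¹ᵁ W) := by
    have e : Algebra.algebraMapSubmonoid Γ(X, f ⁻¹ᵁ V) (Submonoid.powers r) = Submonoid.powers (f.app V r) :=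
      Submonoid.map_powers (algebraMap Γ(Y, V) Γ(X, f ⁻¹ᵁ V)) r
    rw [e]
    exact h.isAffine.isLocalization_of_eq_basicOpen _ (homOfLE (f.preimage_mono (Y.basicOpen_le r)))
      (preimage_basicOpen_eq r)
  have b' : Module.Basis (Fin 2) Γ(Y, W) Γ(X, f ⁻¹ᵁ W) :=
    h.2.some.localizationLocalization Γ(Y, W) (Submonoid.powers r) Γ(X, f ⁻¹ᵁ W)
  refine ⟨⟨h.1.basicOpen r, ⟨b'⟩⟩, CommRingCat.hom_ext (RingHom.ext fun x => ?_)⟩
  exact conj_localization (Submonoid.powers r) h.2.some (Nonempty.intro b').some x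

theorem isFreeTwo_basicOpen {V : Y.Opens} (h : IsFreeTwo f V) (r : Γ(Y, V)) : IsFreeTwo f (Y.basicOpen r) :=
  (isFreeTwo_basicOpen_and h r).1

theorem exists_isFreeTwo [Flat f] [LocallyOfFinitePresentation f] (hrk : ∀ y : Y, f.finrank y = 2) {U : Y.Opens}
    {y : Y} (hy : y ∈ U) : ∃ V : Y.Opens, y ∈ V ∧ V ≤ U ∧ IsFreeTwo f V := by
  obtain ⟨_, ⟨V, hV, rfl⟩, hyV, hVU⟩ := Y.isBasis_affineOpens.exists_subset_of_mem_open hy U.2
  have hfV : IsAffineOpen (f ⁻¹ᵁ V) := hV.preimage f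
  letI iAB : Algebra Γ(Y, V) Γ(X, f ⁻¹ᵁ V) := (f.app V).hom.toAlgebra
  haveI : Module.Finite Γ(Y, V) Γ(X, f ⁻¹ᵁ V) := f.finite_app V hV
  have happ : f.appLE V (f ⁻¹ᵁ V) le_rfl = f.app V := (f.app_eq_appLE).symm
  haveI : Module.Flat Γ(Y, V) Γ(X, f ⁻¹ᵁ V) := by
    have := f.flat_appLE hV hfV le_rfl
    rw [happ] at this
    exact this
  haveI : Algebra.FinitePresentation Γ(Y, V) Γ(X, f ⁻¹ᵁ V) := by
    have := HasRingHomProperty.appLE @LocallyOfFinitePresentation f ‹_› ⟨V, hV⟩ ⟨_, hfV⟩ le_rfl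
    rw [happ] at this
    exact this
  haveI : Module.FinitePresentation Γ(Y, V) Γ(X, f ⁻¹ᵁ V) :=
    Module.FinitePresentation.of_finite_of_finitePresentation _ _
  let P := hV.primeIdealOf ⟨y, hyV⟩
  let S := P.asIdeal.primeCompl
  haveI : Module.Free (Localization S) (LocalizedModule S Γ(X, f ⁻¹ᵁ V)) :=
    Module.free_of_flat_of_isLocalRing
  obtain ⟨r, hrS, hfree, -⟩ := Module.FinitePresentation.exists_free_localizedModule_powers S
    (LocalizedModule.mkLinearMap S Γ(X, f ⁻¹ᵁ V)) (Localization S)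
  let W := Y.basicOpen r
  have hyW : y ∈ W := by
    have hfs : hV.fromSpec P = y := hV.fromSpec_primeIdealOf ⟨y, hyV⟩
    rw [← hfs]
    show P ∈ hV.fromSpec ⁻¹ᵁ Y.basicOpen r
    rw [hV.fromSpec_preimage_basicOpen]
    exact hrS
  have hW : IsAffineOpen W := hV.basicOpen r
  have hfW : IsAffineOpen (f ⁻¹ᵁ W) := hW.preimage f
  letI iA'B' : Algebra Γ(Y, W) Γ(X, f ⁻¹ᵁ W) := (f.app W).hom.toAlgebra
  letI iBB' : Algebra Γ(X, f ⁻¹ᵁ V) Γ(X, f ⁻¹ᵁ W) := (res (f := f) (Y.basicOpen_le r)).hom.toAlgebra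
  letI iAB' : Algebra Γ(Y, V) Γ(X, f ⁻¹ᵁ W) :=
    ((f.app V) ≫ res (f := f) (Y.basicOpen_le r)).hom.toAlgebra
  haveI : IsScalarTower Γ(Y, V) Γ(X, f ⁻¹ᵁ V) Γ(X, f ⁻¹ᵁ W) := IsScalarTower.of_algebraMap_eq' rfl
  haveI : IsScalarTower Γ(Y, V) Γ(Y, W) Γ(X, f ⁻¹ᵁ W) := IsScalarTower.of_algebraMap_eq' (by
    have e := f.naturality (homOfLE (Y.basicOpen_le r)).op
    exact (congrArg CommRingCat.Hom.hom e).symm)
  haveI := hV.isLocalization_basicOpen r
  haveI : IsLocalization (Algebra.algebraMapSubmonoid Γ(X, f ⁻¹ᵁ V) (Submonoid.powers r)) Γ(X, f ⁻¹ᵁ W) := by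
    have e : Algebra.algebraMapSubmonoid Γ(X, f ⁻¹ᵁ V) (Submonoid.powers r) = Submonoid.powers (f.app V r) :=
      Submonoid.map_powers (algebraMap Γ(Y, V) Γ(X, f ⁻¹ᵁ V)) r
    rw [e]
    exact hfV.isLocalization_of_eq_basicOpen _ (homOfLE (f.preimage_mono (Y.basicOpen_le r)))
      (preimage_basicOpen_eq r)
  let g : Γ(X, f ⁻¹ᵁ V) →ₗ[Γ(Y, V)] Γ(X, f ⁻¹ᵁ W) := (IsScalarTower.toAlgHom _ _ _).toLinearMap
  haveI : IsLocalizedModule (Submonoid.powers r) g := isLocalizedModule_iff_isLocalization.2 inferInstance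
  let L := Localization (Submonoid.powers r)
  let ρ : L ≃ₐ[Γ(Y, V)] Γ(Y, W) := IsLocalization.algEquiv (Submonoid.powers r) L Γ(Y, W)
  letI := RingHomInvPair.of_ringEquiv ρ.toRingEquiv
  letI := RingHomInvPair.of_ringEquiv ρ.toRingEquiv.symm
  haveI : Module.Free Γ(Y, W) Γ(X, f ⁻¹ᵁ W) := by
    let e₀ := IsLocalizedModule.iso (Submonoid.powers r) g
    have hsm : ∀ (c : L) (x : LocalizedModule (Submonoid.powers r) Γ(X, f ⁻¹ᵁ V)), e₀ (c • x) = ρ c • e₀ x :=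
      fun c x => by
      obtain ⟨⟨a, t⟩, rfl⟩ := IsLocalization.mk'_surjective (Submonoid.powers r) c
      refine ((Module.End.isUnit_iff _).1 (IsLocalizedModule.map_units g t)).1 ?_
      show (t : Γ(Y, V)) • e₀ (IsLocalization.mk' L a t • x) =
        (t : Γ(Y, V)) • (ρ (IsLocalization.mk' L a t) • e₀ x)
      rw [← map_smul e₀, ← smul_assoc, ← smul_assoc, ← map_smul ρ]
      rw [show (t : Γ(Y, V)) • IsLocalization.mk' L a t = algebraMap Γ(Y, V) L a by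
        rw [Algebra.smul_def, mul_comm, IsLocalization.mk'_spec], AlgEquiv.commutes, algebraMap_smul,
        algebraMap_smul, map_smul]
    exact Module.Free.of_equiv
      ({ e₀.toAddEquiv with map_smul' := hsm } :
        LocalizedModule (Submonoid.powers r) Γ(X, f ⁻¹ᵁ V) ≃ₛₗ[(ρ.toRingEquiv : L →+* Γ(Y, W))] Γ(X, f ⁻¹ᵁ W))
  haveI : Module.Finite Γ(Y, W) Γ(X, f ⁻¹ᵁ W) := f.finite_app W hW
  haveI : Nontrivial Γ(Y, W) := by
    haveI : Nonempty (W : Scheme.{u}) := ⟨⟨y, hyW⟩⟩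
    exact Scheme.component_nontrivial _ _
  refine ⟨W, hyW, (Y.basicOpen_le r).trans hVU, hW, ⟨Module.finBasisOfFinrankEq _ _ ?_⟩⟩
  have sq : IsPullback (Spec.map (f.app W)) hfW.fromSpec hW.fromSpec f := by
    refine IsOpenImmersion.isPullback _ _ _ _ ?_ ?_
    · rw [f.app_eq_appLE, IsAffineOpen.SpecMap_appLE_fromSpec]
    · rw [IsAffineOpen.opensRange_fromSpec, IsAffineOpen.opensRange_fromSpec]
  have e := Scheme.Hom.finrank_of_isPullback _ _ _ _ sq.flip (hW.primeIdealOf ⟨y, hyW⟩)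
  rw [hrk] at e
  have e' := Scheme.Hom.finrank_SpecMap_algebraMap Γ(Y, W) Γ(X, f ⁻¹ᵁ W) (hW.primeIdealOf ⟨y, hyW⟩)
  rw [Module.rankAtStalk_eq_finrank_of_free] at e'
  exact e'.symm.trans e

end Groth.Agent.DblInvol
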