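import Groth.Agent.DblInvol.Glue

/-!
# A double cover is the quotient by its involution
-/

set_option autoImplicit false
set_option linter.style.haveILetI false

universe u

open CategoryTheory Limits AlgebraicGeometry TopologicalSpace

noncomputable section

namespace Groth.Agent.DblInvol

variable {X Y : Scheme.{u}} {f : X ⟶ Y} [IsFinite f] [Flat f] [LocallyOfFinitePresentation f]

/-- the involution on a piece -/
def pieceHom {V : Y.Opens} (h : IsFreeTwo f V) : ((f ⁻¹ᵁ V : X.Opens) : Scheme.{u}) ⟶ X :=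
  h.isAffine.isoSpec.hom ≫ Spec.map (conjV h) ≫ h.isAffine.fromSpec

theorem fromSpec_res {V W : X.Opens} (hV : IsAffineOpen V) (hW : IsAffineOpen W) (h : W ≤ V) :
    X.homOfLE h ≫ hV.isoSpec.hom = hW.isoSpec.hom ≫ Spec.map (X.presheaf.map (homOfLE h).op) := by
  rw [← cancel_mono hV.fromSpec, Category.assoc, Category.assoc, hV.map_fromSpec hW, hW.isoSpec_hom_fromSpec,
    hV.isoSpec_hom_fromSpec, Scheme.homOfLE_ι]

theorem pieceHom_basicOpen {V : Y.Opens} (h : IsFreeTwo f V) (r : Γ(Y, V)) :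
    X.homOfLE (f.preimage_mono (Y.basicOpen_le r)) ≫ pieceHom h = pieceHom (isFreeTwo_basicOpen h r) := by
  obtain ⟨h', e⟩ := isFreeTwo_basicOpen_and h r
  show X.homOfLE _ ≫ _ ≫ _ ≫ _ = h'.isAffine.isoSpec.hom ≫ Spec.map (conjV h') ≫ h'.isAffine.fromSpec
  rw [← Category.assoc (X.homOfLE _), fromSpec_res h.isAffine h'.isAffine, Category.assoc,
    ← Spec.map_comp_assoc]
  rw [show conjV h ≫ X.presheaf.map (homOfLE (f.preimage_mono (Y.basicOpen_le r))).op = _ from e,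
    Spec.map_comp_assoc, h.isAffine.map_fromSpec h'.isAffine]

theorem exists_global (hrk : ∀ y : Y, f.finrank y = 2) :
    ∃ s : X ⟶ X, ∀ (V : Y.Opens) (h : IsFreeTwo f V),
      h.isAffine.fromSpec ≫ s = Spec.map (conjV h) ≫ h.isAffine.fromSpec := by
  let ι := {V : Y.Opens // IsFreeTwo f V}
  have hcov : IsOpenCover fun i : ι => f ⁻¹ᵁ i.1 := top_le_iff.1 fun x _ => by
    obtain ⟨V, hxV, -, hV⟩ := exists_isFreeTwo (f := f) hrk (U := ⊤) (y := f x) trivial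
    exact Opens.mem_iSup.2 ⟨⟨V, hV⟩, hxV⟩
  let 𝒰 : X.OpenCover := X.openCoverOfIsOpenCover (fun i : ι => f ⁻¹ᵁ i.1) hcov
  have hcompat : ∀ i j : ι, pullback.fst ((f ⁻¹ᵁ i.1).ι) ((f ⁻¹ᵁ j.1).ι) ≫ pieceHom i.2 =
      pullback.snd ((f ⁻¹ᵁ i.1).ι) ((f ⁻¹ᵁ j.1).ι) ≫ pieceHom j.2 := by
    intro i j
    let g := pullback.fst ((f ⁻¹ᵁ i.1).ι) ((f ⁻¹ᵁ j.1).ι) ≫ (f ⁻¹ᵁ i.1).ι
    have key : ∀ p, ∃ W : (pullback ((f ⁻¹ᵁ i.1).ι) ((f ⁻¹ᵁ j.1).ι)).Opens, p ∈ W ∧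
        W.ι ≫ pullback.fst ((f ⁻¹ᵁ i.1).ι) ((f ⁻¹ᵁ j.1).ι) ≫ pieceHom i.2 = W.ι ≫ pullback.snd ((f ⁻¹ᵁ i.1).ι) ((f ⁻¹ᵁ j.1).ι) ≫ pieceHom j.2 :=
      fun p => by
      have hpi : f (g p) ∈ i.1 := by
        show f ((f ⁻¹ᵁ i.1).ι (pullback.fst ((f ⁻¹ᵁ i.1).ι) ((f ⁻¹ᵁ j.1).ι) p)) ∈ i.1
        exact (pullback.fst ((f ⁻¹ᵁ i.1).ι) ((f ⁻¹ᵁ j.1).ι) p).2
      have hpj : f (g p) ∈ j.1 := by
        show f ((pullback.fst ((f ⁻¹ᵁ i.1).ι) ((f ⁻¹ᵁ j.1).ι) ≫ (f ⁻¹ᵁ i.1).ι) p) ∈ j.1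
        rw [pullback.condition]
        exact (pullback.snd ((f ⁻¹ᵁ i.1).ι) ((f ⁻¹ᵁ j.1).ι) p).2
      obtain ⟨r, r', hrr, hp⟩ := exists_basicOpen_le_affine_inter i.2.1 j.2.1 (f (g p)) ⟨hpi, hpj⟩
      let D := f ⁻¹ᵁ Y.basicOpen r
      refine ⟨g ⁻¹ᵁ D, hp, ?_⟩
      let l : ((g ⁻¹ᵁ D : (pullback ((f ⁻¹ᵁ i.1).ι) ((f ⁻¹ᵁ j.1).ι)).Opens) : Scheme.{u}) ⟶ (D : Scheme.{u}) := g ∣_ D
      have hleI : D ≤ f ⁻¹ᵁ i.1 := f.preimage_mono (Y.basicOpen_le r)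
      have hleJ : D ≤ f ⁻¹ᵁ j.1 := f.preimage_mono (hrr ▸ Y.basicOpen_le r')
      have e1 : (g ⁻¹ᵁ D).ι ≫ pullback.fst ((f ⁻¹ᵁ i.1).ι) ((f ⁻¹ᵁ j.1).ι) = l ≫ X.homOfLE hleI := by
        rw [← cancel_mono (f ⁻¹ᵁ i.1).ι, Category.assoc, Category.assoc, Scheme.homOfLE_ι, morphismRestrict_ι]
      have e2 : (g ⁻¹ᵁ D).ι ≫ pullback.snd ((f ⁻¹ᵁ i.1).ι) ((f ⁻¹ᵁ j.1).ι) = l ≫ X.homOfLE hleJ := by
        rw [← cancel_mono (f ⁻¹ᵁ j.1).ι, Category.assoc, Category.assoc, Scheme.homOfLE_ι, morphismRestrict_ι]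
        exact congrArg ((g ⁻¹ᵁ D).ι ≫ ·) pullback.condition.symm
      rw [reassoc_of% e1, reassoc_of% e2, pieceHom_basicOpen i.2 r]
      congr 1
      have aux : ∀ (W : Y.Opens) (_ : W = Y.basicOpen r') (hW : IsFreeTwo f W) (hle : f ⁻¹ᵁ W ≤ f ⁻¹ᵁ j.1),
          pieceHom hW = X.homOfLE hle ≫ pieceHom j.2 := by
        rintro W rfl hW hle
        exact (pieceHom_basicOpen j.2 r').symm
      exact aux _ hrr (isFreeTwo_basicOpen i.2 r) hleJ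
    choose W hpW hW using key
    refine (Scheme.openCoverOfIsOpenCover _ W (top_le_iff.1 fun p _ => Opens.mem_iSup.2 ⟨p, hpW p⟩)).hom_ext
      _ _ fun p => ?_
    exact hW p
  refine ⟨𝒰.glueMorphisms (fun i => pieceHom i.2) hcompat, fun V h => ?_⟩
  rw [← cancel_epi h.isAffine.isoSpec.hom, ← Category.assoc, h.isAffine.isoSpec_hom_fromSpec]
  exact 𝒰.ι_glueMorphisms _ hcompat ⟨V, h⟩

theorem exists_involution (hrk : ∀ y : Y, f.finrank y = 2) (h2 : IsUnit (2 : Γ(Y, ⊤))) :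
    ∃ σ : Aut X, σ.hom ≫ f = f ∧ σ * σ = 1 ∧ SGA1.IsQuot (Subgroup.zpowers σ).subtype f := by
  obtain ⟨s, hs⟩ := exists_global (f := f) hrk
  let ι := {V : Y.Opens // IsFreeTwo f V}
  have hcov : IsOpenCover fun i : ι => f ⁻¹ᵁ i.1 := top_le_iff.1 fun x _ => by
    obtain ⟨V, hxV, -, hV⟩ := exists_isFreeTwo (f := f) hrk (U := ⊤) (y := f x) trivial
    exact Opens.mem_iSup.2 ⟨⟨V, hV⟩, hxV⟩
  have hext : ∀ {Z : Scheme.{u}} (a b : X ⟶ Z),
      (∀ V (h : IsFreeTwo f V), h.isAffine.fromSpec ≫ a = h.isAffine.fromSpec ≫ b) → a = b := fun a b H => by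
    refine (X.openCoverOfIsOpenCover (fun i : ι => f ⁻¹ᵁ i.1) hcov).hom_ext _ _ fun i => ?_
    show (f ⁻¹ᵁ i.1).ι ≫ a = (f ⁻¹ᵁ i.1).ι ≫ b
    rw [← i.2.isAffine.isoSpec_hom_fromSpec, Category.assoc, Category.assoc, H _ i.2]
  have hsf : s ≫ f = f := hext _ _ fun V h => by
    rw [reassoc_of% (hs V h), ← IsAffineOpen.SpecMap_appLE_fromSpec f h.1 h.isAffine le_rfl,
      ← Spec.map_comp_assoc, ← Scheme.Hom.app_eq_appLE, app_conjV]
  have hss : s ≫ s = 𝟙 X := hext _ _ fun V h => by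
    rw [reassoc_of% (hs V h), hs V h, ← Spec.map_comp_assoc, conjV_conjV, Spec.map_id, Category.id_comp,
      Category.comp_id]
  let σ : Aut X := ⟨s, s, hss, hss⟩
  have hsq : σ * σ = 1 := Iso.ext hss
  have hinv : ∀ g : Subgroup.zpowers σ, ((Subgroup.zpowers σ).subtype g).hom ≫ f = f := by
    rintro ⟨g, hg⟩
    obtain ⟨n, rfl⟩ := Subgroup.mem_zpowers_iff.1 hg
    show (σ ^ n).hom ≫ f = f
    rcases Int.even_or_odd' n with ⟨m, rfl | rfl⟩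
    · rw [zpow_mul, show σ ^ (2 : ℤ) = 1 from (zpow_two σ).trans hsq, one_zpow]
      exact Category.id_comp f
    · rw [zpow_add_one, zpow_mul, show σ ^ (2 : ℤ) = 1 from (zpow_two σ).trans hsq, one_zpow, one_mul]
      exact hsf
  have happ : ∀ (V : Y.Opens) (h : IsFreeTwo f V) (e : f ⁻¹ᵁ V ≤ s ⁻¹ᵁ (f ⁻¹ᵁ V)),
      s.appLE (f ⁻¹ᵁ V) (f ⁻¹ᵁ V) e = conjV h := fun V h e => by
    refine Spec.map_injective ((cancel_mono h.isAffine.fromSpec).1 ?_)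
    rw [IsAffineOpen.SpecMap_appLE_fromSpec s h.isAffine h.isAffine, hs V h]
  have hinj : ∀ U : Y.Opens, Function.Injective (f.app U).hom := fun U a b hab => by
    refine Y.sheaf.eq_of_locally_eq' (fun i : {V : Y.Opens // IsFreeTwo f V ∧ V ≤ U} => i.1) U
      (fun i => homOfLE i.2.2) (fun y hy => ?_) a b fun i => ?_
    · obtain ⟨V, hyV, hVU, hV⟩ := exists_isFreeTwo (f := f) hrk hy
      exact Opens.mem_iSup.2 ⟨⟨V, hV, hVU⟩, hyV⟩
    · apply app_injective i.2.1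
      have e := f.naturality (homOfLE i.2.2).op
      exact (ConcreteCategory.congr_hom e a).trans
        ((congrArg (X.presheaf.map ((Opens.map f.base).map (homOfLE i.2.2)).op) hab).trans
          (ConcreteCategory.congr_hom e b).symm)
  refine ⟨σ, hsf, hsq, ⟨inferInstance, hinv, hinj, fun U t => ⟨?_, fun ht => ?_⟩⟩⟩
  · rintro ⟨a, rfl⟩ g
    have e : f.app U ≫ ((Subgroup.zpowers σ).subtype g).hom.appLE (f ⁻¹ᵁ U) (f ⁻¹ᵁ U)
        (SGA1.preimage_le_of_inv _ f hinv g U) = f.app U := by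
      rw [f.app_eq_appLE, Scheme.Hom.appLE_comp_appLE]
      simp only [hinv g]
    exact ConcreteCategory.congr_hom e a
  · have ht' := ht ⟨σ, Subgroup.mem_zpowers σ⟩
    have key : ∀ i : {V : Y.Opens // IsFreeTwo f V ∧ V ≤ U}, ∃ a,
        f.app i.1 a = X.presheaf.map ((Opens.map f.base).map (homOfLE i.2.2)).op t := fun i => by
      refine mem_range_of_conjV h2 i.2.1 ?_
      have e : f ⁻¹ᵁ i.1 ≤ s ⁻¹ᵁ (f ⁻¹ᵁ i.1) := by rw [← Scheme.Hom.comp_preimage, hsf]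
      rw [← happ i.1 i.2.1 e]
      refine Eq.trans ?_ (congrArg (X.presheaf.map ((Opens.map f.base).map (homOfLE i.2.2)).op) ht')
      rw [← ConcreteCategory.comp_apply, ← ConcreteCategory.comp_apply, Scheme.Hom.map_appLE]
      show _ = (s.appLE _ _ _ ≫ _) t
      rw [Scheme.Hom.appLE_map]
    choose a ha using key
    obtain ⟨b, hb, -⟩ := Y.sheaf.existsUnique_gluing' (fun i : {V : Y.Opens // IsFreeTwo f V ∧ V ≤ U} => i.1) U
      (fun i => homOfLE i.2.2) (fun y hy => by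
        obtain ⟨V, hyV, hVU, hV⟩ := exists_isFreeTwo (f := f) hrk hy
        exact Opens.mem_iSup.2 ⟨⟨V, hV, hVU⟩, hyV⟩) a (fun i j => by
        apply hinj
        refine (ConcreteCategory.congr_hom (f.naturality (Opens.infLELeft i.1 j.1).op) (a i)).trans ?_
        refine Eq.trans ?_ (ConcreteCategory.congr_hom (f.naturality (Opens.infLERight i.1 j.1).op) (a j)).symm
        rw [ConcreteCategory.comp_apply, ConcreteCategory.comp_apply, ha, ha, ← ConcreteCategory.comp_apply,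
          ← ConcreteCategory.comp_apply, ← Functor.map_comp, ← Functor.map_comp]
        rfl)
    refine ⟨b, ?_⟩
    refine X.sheaf.eq_of_locally_eq' (fun i : {V : Y.Opens // IsFreeTwo f V ∧ V ≤ U} => f ⁻¹ᵁ i.1) (f ⁻¹ᵁ U)
      (fun i => (Opens.map f.base).map (homOfLE i.2.2)) (fun x hx => ?_) _ _ fun i => ?_
    · obtain ⟨V, hyV, hVU, hV⟩ := exists_isFreeTwo (f := f) hrk (show f x ∈ U from hx)
      exact Opens.mem_iSup.2 ⟨⟨V, hV, hVU⟩, hyV⟩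
    · refine (ConcreteCategory.congr_hom (f.naturality (homOfLE i.2.2).op) b).symm.trans ?_
      exact (congrArg (f.app i.1) (hb i)).trans (ha i)

end Groth.Agent.DblInvol
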